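import Mathlib
import Groth.Agent.TFCanonLib.ExtLength

/-! Submodules of `k[[t]]` cut out by supports over a monomial subalgebra; `Ext¹` from a projective presentation. -/

set_option autoImplicit false
set_option maxHeartbeats 2000000
universe u

namespace Groth.Agent.TFMonoLib

open PowerSeries CategoryTheory Abelian

/-- Lengths along a step `N ≤ N'` with `N'/N ≅ V`. -/
theorem length_quotient_step {O P V : Type*} [Ring O] [AddCommGroup P] [Module O P] [AddCommGroup V] [Module O V]
    (N N' : Submodule O P) (hle : N ≤ N') (π : ↥N' →ₗ[O] V) (hπ : Function.Surjective π)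
    (hker : ∀ x : ↥N', π x = 0 ↔ (x : P) ∈ N) :
    Module.length O (P ⧸ N) = Module.length O V + Module.length O (P ⧸ N') := by
  let i := N.liftQ N'.mkQ (by rw [Submodule.ker_mkQ]; exact hle)
  let φ : ↥N' →ₗ[O] P ⧸ N := N.mkQ.comp N'.subtype
  have hex : Function.Exact (LinearMap.range φ).subtype i := by
    rw [LinearMap.exact_iff, Submodule.range_subtype]
    simp only [i, φ, Submodule.ker_liftQ, Submodule.ker_mkQ, LinearMap.range_comp, Submodule.range_subtype]
  have his : Function.Surjective i := fun q => by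
    obtain ⟨f, rfl⟩ := Submodule.mkQ_surjective _ q
    exact ⟨Submodule.Quotient.mk f, rfl⟩
  have hk : LinearMap.ker π = LinearMap.ker φ := Submodule.ext fun x => by
    rw [LinearMap.mem_ker, LinearMap.mem_ker, hker, show φ x = Submodule.Quotient.mk (x : P) from rfl,
      Submodule.Quotient.mk_eq_zero]
  rw [Module.length_eq_add_of_exact _ _ Subtype.val_injective his hex, ← φ.quotKerEquivRange.length_eq,
    ← (π.quotKerEquivOfSurjective hπ).length_eq, hk]

variable {k : Type u} [Field k] (A : Subalgebra k (PowerSeries k)) {G : Set ℕ}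

/-- The series with support in a stable set of exponents. -/
def Sup (hA : ∀ f : PowerSeries k, f ∈ A → ∀ m, coeff m f ≠ 0 → m ∈ G) (S : Set ℕ)
    (hS : ∀ g ∈ G, ∀ s ∈ S, g + s ∈ S) : Submodule ↥A (PowerSeries k) where
  carrier := {f | ∀ m, coeff m f ≠ 0 → m ∈ S}
  add_mem' := fun {f g} hf hg m hm => by
    by_contra h
    rw [map_add, not_ne_iff.mp (fun h' => h (hf m h')), not_ne_iff.mp (fun h' => h (hg m h')), add_zero] at hm
    exact hm rfl
  zero_mem' := fun m hm => absurd (map_zero _) hm
  smul_mem' := fun a f hf m hm => by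
    by_contra h
    refine hm ?_
    show coeff m ((a : PowerSeries k) * f) = 0
    rw [coeff_mul]
    refine Finset.sum_eq_zero fun p hp => ?_
    by_contra hne
    rw [Finset.HasAntidiagonal.mem_antidiagonal] at hp
    exact h (hp ▸ hS _ (hA _ a.2 _ (left_ne_zero_of_mul hne)) _ (hf _ (right_ne_zero_of_mul hne)))

variable (hA : ∀ f : PowerSeries k, f ∈ A → ∀ m, coeff m f ≠ 0 → m ∈ G)

/-- The colength of a supported submodule is the number of missing exponents. -/
theorem length_quotient_sup : ∀ (D : Finset ℕ) (S : Set ℕ) (hS : ∀ g ∈ G, ∀ s ∈ S, g + s ∈ S),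
    (∀ m, m ∉ S ↔ m ∈ D) → Module.length ↥A (PowerSeries k ⧸ Sup A hA S hS) = D.card := by
  intro D
  induction D using Finset.induction_on_max with
  | empty =>
    intro S hS hD
    have : Sup A hA S hS = ⊤ := eq_top_iff.mpr fun f _ m _ => by
      by_contra h
      exact Finset.notMem_empty m ((hD m).mp h)
    haveI : Subsingleton (PowerSeries k ⧸ Sup A hA S hS) := Submodule.Quotient.subsingleton_iff.mpr this
    rw [Finset.card_empty, Nat.cast_zero]
    exact Module.length_eq_zero
  | insert b D hlt ih =>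
    intro S hS hD
    classical
    letI := TFCanonLib.augAlgebra A
    have hbD : b ∉ D := fun h => lt_irrefl b (hlt b h)
    have hgt : ∀ m, b < m → m ∈ S := fun m hm => by
      by_contra h
      rcases Finset.mem_insert.mp ((hD m).mp h) with h' | h'
      · omega
      · exact absurd (hlt m h') (by omega)
    have hbS : b ∉ S := (hD b).mpr (Finset.mem_insert_self _ _)
    let S' : Set ℕ := insert b S
    have hS' : ∀ g ∈ G, ∀ s ∈ S', g + s ∈ S' := by
      rintro g hg s (rfl | hs)
      · rcases Nat.eq_zero_or_pos g with rfl | hpos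
        · exact Or.inl (zero_add _)
        · exact Or.inr (hgt _ (by omega))
      · exact Or.inr (hS g hg s hs)
    have hD' : ∀ m, m ∉ S' ↔ m ∈ D := fun m => by
      have := hD m
      simp only [S', Set.mem_insert_iff, not_or, Finset.mem_insert] at this ⊢
      constructor
      · exact fun h => (this.mp h.2).resolve_left h.1
      · exact fun h => ⟨fun e => hbD (e ▸ h), this.mpr (Or.inr h)⟩
    have hle : Sup A hA S hS ≤ Sup A hA S' hS' := fun f hf m hm => Or.inr (hf m hm)
    let π : ↥(Sup A hA S' hS') →ₗ[↥A] k :=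
      { toFun := fun f => coeff b (f : PowerSeries k)
        map_add' := fun f g => map_add _ _ _
        map_smul' := fun a f => by
          show coeff b ((a : PowerSeries k) * (f : PowerSeries k)) = constantCoeff (a : PowerSeries k) * coeff b (f : PowerSeries k)
          rw [coeff_mul, Finset.sum_eq_single (0, b)]
          · rw [coeff_zero_eq_constantCoeff_apply]
          · intro p hp hne
            rw [Finset.HasAntidiagonal.mem_antidiagonal] at hp
            by_contra h
            rcases f.2 _ (right_ne_zero_of_mul h) with h2 | h2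
            · exact hne (Prod.ext (by omega) h2)
            · exact hbS (hp ▸ hS _ (hA _ a.2 _ (left_ne_zero_of_mul h)) _ h2)
          · intro h
            exact absurd (Finset.HasAntidiagonal.mem_antidiagonal.mpr (zero_add b)) h }
    have hπ : Function.Surjective π := fun c => by
      refine ⟨⟨C c * X ^ b, fun m hm => ?_⟩, ?_⟩
      · rw [coeff_C_mul_X_pow] at hm
        exact Or.inl (by_contra fun h => hm (if_neg h))
      · show coeff b (C c * X ^ b) = c
        rw [coeff_C_mul_X_pow, if_pos rfl]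
    have hker : ∀ f : ↥(Sup A hA S' hS'), π f = 0 ↔ (f : PowerSeries k) ∈ Sup A hA S hS := fun f => by
      refine ⟨fun h m hm => (f.2 m hm).resolve_left fun e => hm (e ▸ h), fun h => ?_⟩
      by_contra hne
      exact hbS (h b hne)
    have hk : Module.length ↥A k = 1 := by
      rw [Module.length_eq_of_surjective (R := k) (fun c => ⟨algebraMap k ↥A c, by
        show constantCoeff (PowerSeries.C c) = c
        simp⟩), Module.length_eq_finrank, Module.finrank_self, Nat.cast_one]
    rw [length_quotient_step (Sup A hA S hS) (Sup A hA S' hS') hle π hπ hker, hk, ih S' hS' hD',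
      Finset.card_insert_of_notMem hbD]
    push_cast
    ring

include hA in
/-- The length of a quotient of two supported submodules. -/
theorem length_range_add (D₁ D₂ : Finset ℕ) (S₁ S₂ : Set ℕ) (hS₁ : ∀ g ∈ G, ∀ s ∈ S₁, g + s ∈ S₁)
    (hS₂ : ∀ g ∈ G, ∀ s ∈ S₂, g + s ∈ S₂) (h₁ : ∀ m, m ∉ S₁ ↔ m ∈ D₁) (h₂ : ∀ m, m ∉ S₂ ↔ m ∈ D₂) (h : S₁ ⊆ S₂) :
    Module.length ↥A ↥(LinearMap.range ((Sup A hA S₁ hS₁).mkQ.comp (Sup A hA S₂ hS₂).subtype)) + D₂.card = D₁.card := by
  have hle : Sup A hA S₁ hS₁ ≤ Sup A hA S₂ hS₂ := fun f hf m hm => h (hf m hm)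
  let i := (Sup A hA S₁ hS₁).liftQ (Sup A hA S₂ hS₂).mkQ (by rw [Submodule.ker_mkQ]; exact hle)
  have hex : Function.Exact (LinearMap.range ((Sup A hA S₁ hS₁).mkQ.comp (Sup A hA S₂ hS₂).subtype)).subtype i := by
    rw [LinearMap.exact_iff, Submodule.range_subtype]
    simp only [i, Submodule.ker_liftQ, Submodule.ker_mkQ, LinearMap.range_comp, Submodule.range_subtype]
  have his : Function.Surjective i := fun q => by
    obtain ⟨f, rfl⟩ := Submodule.mkQ_surjective _ q
    exact ⟨Submodule.Quotient.mk f, rfl⟩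
  rw [← length_quotient_sup A hA D₁ S₁ hS₁ h₁, Module.length_eq_add_of_exact _ _ Subtype.val_injective his hex,
    length_quotient_sup A hA D₂ S₂ hS₂ h₂]

/-- `Ext¹` from a presentation by a projective module. -/
theorem exists_connecting_proj {O : Type u} [CommRing O] {M N F K : Type u} [AddCommGroup M] [Module O M]
    [AddCommGroup N] [Module O N] [AddCommGroup F] [Module O F] [Module.Projective O F] [AddCommGroup K]
    [Module O K] (i : K →ₗ[O] F) (q : F →ₗ[O] M) (hi : Function.Injective i) (hq : Function.Surjective q)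
    (h : Function.Exact i q) :
    ∃ δ : (K →ₗ[O] N) →ₗ[O] Ext (ModuleCat.of O M) (ModuleCat.of O N) 1,
      Function.Surjective δ ∧ ∀ f, δ f = 0 ↔ ∃ η : F →ₗ[O] N, η.comp i = f := by
  have hS : (ShortComplex.mk (X₁ := ModuleCat.of O K) (X₂ := ModuleCat.of O F) (X₃ := ModuleCat.of O M)
      (ModuleCat.ofHom i) (ModuleCat.ofHom q) (ModuleCat.hom_ext h.linearMap_comp_eq_zero)).ShortExact :=
    { exact := (ShortComplex.ShortExact.moduleCat_exact_iff_function_exact _).mpr h
      mono_f := (ModuleCat.mono_iff_injective _).mpr hi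
      epi_g := (ModuleCat.epi_iff_surjective _).mpr hq }
  haveI : CategoryTheory.Projective (ModuleCat.of O F) := (IsProjective.iff_projective (R := O) F).mp inferInstance
  refine ⟨{ toFun := fun f => hS.extClass.comp (Ext.mk₀ (ModuleCat.ofHom f)) rfl
            map_add' := fun f g => by rw [← Ext.comp_add, ← Ext.mk₀_add]; rfl
            map_smul' := fun g f => by rw [RingHom.id_apply, ← Ext.comp_smul, ← Ext.mk₀_smul]; rfl },
    fun e => ?_, fun f => ⟨fun hf => ?_, fun ⟨η, hη⟩ => ?_⟩⟩
  · obtain ⟨x, hx⟩ := Ext.contravariant_sequence_exact₃ hS _ e (Ext.eq_zero_of_projective _) (show 1 + 0 = 1 from rfl)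
    obtain ⟨g, rfl⟩ := (Ext.mk₀_bijective _ _).2 x
    exact ⟨g.hom, hx⟩
  · obtain ⟨x, hx⟩ := Ext.contravariant_sequence_exact₁ hS _ (Ext.mk₀ (ModuleCat.ofHom f)) (show 1 + 0 = 1 from rfl) hf
    obtain ⟨η, rfl⟩ := (Ext.mk₀_bijective _ _).2 x
    rw [Ext.mk₀_comp_mk₀] at hx
    exact ⟨η.hom, congrArg ModuleCat.Hom.hom ((Ext.mk₀_bijective _ _).1 hx)⟩
  · subst hη
    show hS.extClass.comp (Ext.mk₀ (ModuleCat.ofHom i ≫ ModuleCat.ofHom η)) (show 1 + 0 = 1 from rfl) = 0
    rw [← Ext.mk₀_comp_mk₀]
    exact hS.extClass_comp_assoc _ (h := rfl)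

/-- `Ext¹` from a presentation, read off from the values at one element. -/
theorem length_ext_eq {O : Type u} [CommRing O] {M N F K P : Type u} [AddCommGroup M] [Module O M]
    [AddCommGroup N] [Module O N] [AddCommGroup F] [Module O F] [Module.Projective O F] [AddCommGroup K]
    [Module O K] [AddCommGroup P] [Module O P]
    (i : K →ₗ[O] F) (q : F →ₗ[O] M) (hi : Function.Injective i) (hq : Function.Surjective q)
    (h : Function.Exact i q) (e : N →ₗ[O] P) (x : K) (W C : Submodule O P)
    (hC : ∀ c, c ∈ C ↔ ∃ φ : K →ₗ[O] N, e (φ x) = c)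
    (hW : ∀ φ : K →ₗ[O] N, (∃ η : F →ₗ[O] N, η.comp i = φ) ↔ e (φ x) ∈ W) :
    Module.length O (Ext (ModuleCat.of O M) (ModuleCat.of O N) 1) =
      Module.length O ↥(LinearMap.range (W.mkQ.comp C.subtype)) := by
  obtain ⟨δ, hδs, hδ⟩ := exists_connecting_proj (N := N) i q hi hq h
  let ψ : (K →ₗ[O] N) →ₗ[O] P := e.comp (LinearMap.applyₗ x)
  have hk : LinearMap.ker δ = LinearMap.ker (W.mkQ.comp ψ) := Submodule.ext fun φ => by
    rw [LinearMap.mem_ker, LinearMap.mem_ker, LinearMap.comp_apply, Submodule.mkQ_apply, Submodule.Quotient.mk_eq_zero,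
      hδ, hW]
    rfl
  have hr : LinearMap.range ψ = C := Submodule.ext fun c => by
    rw [hC, LinearMap.mem_range]
    rfl
  rw [← (δ.quotKerEquivOfSurjective hδs).length_eq, hk, (W.mkQ.comp ψ).quotKerEquivRange.length_eq,
    LinearMap.range_comp ψ W.mkQ, hr, LinearMap.range_comp, Submodule.range_subtype]

/-- `Ext¹` from a presentation, read off from the values at finitely many elements, all tuples being attained. -/
theorem length_ext_eq_pi {O : Type u} [CommRing O] {M N F K P : Type u} [AddCommGroup M] [Module O M]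
    [AddCommGroup N] [Module O N] [AddCommGroup F] [Module O F] [Module.Projective O F] [AddCommGroup K]
    [Module O K] [AddCommGroup P] [Module O P] {ι : Type} [Fintype ι]
    (i : K →ₗ[O] F) (q : F →ₗ[O] M) (hi : Function.Injective i) (hq : Function.Surjective q)
    (h : Function.Exact i q) (e : N →ₗ[O] P) (x : ι → K) (W : Submodule O P)
    (hC : ∀ c : ι → P, ∃ φ : K →ₗ[O] N, ∀ a, e (φ (x a)) = c a)
    (hW : ∀ φ : K →ₗ[O] N, (∃ η : F →ₗ[O] N, η.comp i = φ) ↔ ∀ a, e (φ (x a)) ∈ W) :
    Module.length O (Ext (ModuleCat.of O M) (ModuleCat.of O N) 1) = Fintype.card ι * Module.length O (P ⧸ W) := by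
  obtain ⟨δ, hδs, hδ⟩ := exists_connecting_proj (N := N) i q hi hq h
  let ψ : (K →ₗ[O] N) →ₗ[O] (ι → P ⧸ W) := LinearMap.pi fun a => W.mkQ.comp (e.comp (LinearMap.applyₗ (x a)))
  have hk : LinearMap.ker δ = LinearMap.ker ψ := Submodule.ext fun φ => by
    rw [LinearMap.mem_ker, LinearMap.mem_ker, hδ, hW, funext_iff]
    exact forall_congr' fun a => (Submodule.Quotient.mk_eq_zero W).symm
  have hψ : Function.Surjective ψ := fun c => by
    choose c' hc' using fun a => Submodule.mkQ_surjective W (c a)
    obtain ⟨φ, hφ⟩ := hC c'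
    exact ⟨φ, funext fun a => by rw [← hc' a, ← hφ a]; rfl⟩
  rw [← (δ.quotKerEquivOfSurjective hδs).length_eq, hk, (ψ.quotKerEquivOfSurjective hψ).length_eq]
  rw [Module.length_pi, ENat.card_eq_coe_fintype_card]

end Groth.Agent.TFMonoLib
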