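import Groth.Agent.TFMonoLib.Supported

/-! `Ext¹` of a two-generated monomial module over a monomial curve algebra. -/

set_option autoImplicit false
set_option maxHeartbeats 4000000
set_option synthInstance.maxHeartbeats 400000
universe u

namespace Groth.Agent.TFMonoLib

open PowerSeries CategoryTheory

variable {k : Type u} [Field k] (A : Subalgebra k (PowerSeries k))

/-- The exponents of a module spanned by monomials. -/
def spanExp (G : Set ℕ) (T : Finset ℕ) : Set ℕ := {m | ∃ t ∈ T, t ≤ m ∧ m - t ∈ G}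

lemma coeff_X_pow_mul_ne (c : ℕ) (f : PowerSeries k) (m : ℕ) (hm : coeff m (X ^ c * f) ≠ 0) :
    c ≤ m ∧ coeff (m - c) f ≠ 0 := by
  rw [coeff_X_pow_mul'] at hm
  by_cases h : c ≤ m
  · exact ⟨h, by rwa [if_pos h] at hm⟩
  · exact absurd (if_neg h) hm

lemma exists_eq_X_pow_mul (e : ℕ) (f : PowerSeries k) (h : ∀ m, coeff m f ≠ 0 → e ≤ m) :
    ∃ g : PowerSeries k, f = X ^ e * g ∧ ∀ m, coeff m g = coeff (m + e) f :=
  ⟨mk fun m => coeff (m + e) f, PowerSeries.ext fun m => by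
    rw [coeff_X_pow_mul']
    split_ifs with hm
    · rw [coeff_mk, Nat.sub_add_cancel hm]
    · by_contra hne
      exact hm (h m hne), fun m => coeff_mk _ _⟩

variable {G : Set ℕ}

lemma mul_supported {S T U : Set ℕ} (h : ∀ a ∈ S, ∀ b ∈ T, a + b ∈ U) {f g : PowerSeries k}
    (hf : ∀ m, coeff m f ≠ 0 → m ∈ S) (hg : ∀ m, coeff m g ≠ 0 → m ∈ T) : ∀ m, coeff m (f * g) ≠ 0 → m ∈ U := by
  intro m hm
  rw [coeff_mul] at hm
  obtain ⟨p, hp, hne⟩ := Finset.exists_ne_zero_of_sum_ne_zero hm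
  rw [Finset.HasAntidiagonal.mem_antidiagonal] at hp
  exact hp ▸ h _ (hf _ (left_ne_zero_of_mul hne)) _ (hg _ (right_ne_zero_of_mul hne))

theorem mem_span_iff (hA : ∀ f : PowerSeries k, f ∈ A ↔ ∀ m, coeff m f ≠ 0 → m ∈ G) : ∀ (T : Finset ℕ)
    (f : PowerSeries k), f ∈ Submodule.span ↥A ((fun t : ℕ => (X : PowerSeries k) ^ t) '' ↑T) ↔
      ∀ m, coeff m f ≠ 0 → m ∈ spanExp G T := by
  classical
  intro T
  induction T using Finset.induction_on with
  | empty =>
    intro f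
    rw [Finset.coe_empty, Set.image_empty, Submodule.span_empty, Submodule.mem_bot]
    refine ⟨fun h m hm => absurd (by rw [h, map_zero]) hm, fun h => PowerSeries.ext fun m => by_contra fun hm => ?_⟩
    obtain ⟨t, ht, -⟩ := h m (by rwa [map_zero] at hm)
    exact Finset.notMem_empty t ht
  | insert a T haT ih =>
    intro f
    rw [Finset.coe_insert, Set.image_insert_eq, Submodule.mem_span_insert]
    constructor
    · rintro ⟨c, z, hz, rfl⟩ m hm
      rw [map_add] at hm
      by_cases hc : coeff m (c • (X : PowerSeries k) ^ a) = 0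
      · rw [hc, zero_add] at hm
        obtain ⟨t, ht, h1, h2⟩ := (ih z).mp hz m hm
        exact ⟨t, Finset.mem_insert_of_mem ht, h1, h2⟩
      · rw [Subalgebra.smul_def, smul_eq_mul, mul_comm] at hc
        obtain ⟨h1, h2⟩ := coeff_X_pow_mul_ne _ _ m hc
        exact ⟨a, Finset.mem_insert_self a T, h1, (hA _).mp c.2 _ h2⟩
    · intro hf
      let c : PowerSeries k := mk fun r => if r ∈ G then coeff (r + a) f else 0
      have hc : c ∈ A := (hA c).mpr fun r hr => by_contra fun h => hr (by simp [c, h])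
      refine ⟨⟨c, hc⟩, f - X ^ a * c, (ih _).mpr fun m hm => ?_, ?_⟩
      · rw [map_sub, coeff_X_pow_mul'] at hm
        by_cases h : a ≤ m ∧ m - a ∈ G
        · rw [if_pos h.1, coeff_mk, if_pos h.2, Nat.sub_add_cancel h.1, sub_self] at hm
          exact absurd rfl hm
        · have h0 : (if a ≤ m then coeff (m - a) c else 0) = 0 := by
            split_ifs with h1
            · rw [coeff_mk, if_neg fun h2 => h ⟨h1, h2⟩]
            · rfl
          rw [h0, sub_zero] at hm
          obtain ⟨t, ht, h1, h2⟩ := hf m hm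
          rcases Finset.mem_insert.mp ht with rfl | ht
          · exact absurd ⟨h1, h2⟩ h
          · exact ⟨t, ht, h1, h2⟩
      · rw [Subalgebra.smul_def, smul_eq_mul, mul_comm]
        exact (add_sub_cancel _ _).symm

/-- `Ext¹(A + A tˢ, N)` for monomial `N`: the gaps of coboundaries minus the gaps of multipliers. -/
theorem length_ext_two_gen (hA : ∀ f : PowerSeries k, f ∈ A ↔ ∀ m, coeff m f ≠ 0 → m ∈ G) (s e : ℕ)
    (S' : Set ℕ) (hJ : ∀ m, m ∈ G ∧ m + s ∈ G ↔ e ≤ m ∧ m - e ∈ S') (h0 : 0 ∈ S')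
    (hS' : ∀ g ∈ G, ∀ t ∈ S', g + t ∈ S') (SN : Set ℕ) (hSN : ∀ g ∈ G, ∀ t ∈ SN, g + t ∈ SN)
    (N : Submodule ↥A (PowerSeries k)) (hN : ∀ f, f ∈ N ↔ ∀ m, coeff m f ≠ 0 → m ∈ SN)
    (DW DC : Finset ℕ) (hDW : ∀ m, ((e + s ≤ m ∧ m - (e + s) ∈ SN) ∨ (e ≤ m ∧ m - e ∈ SN)) ↔ m ∉ DW)
    (hDC : ∀ c, (∀ t ∈ S', t + c ∈ SN) ↔ c ∉ DC) :
    Module.length ↥A (Abelian.Ext
      (ModuleCat.of ↥A ↥(Submodule.span ↥A ({1, X ^ s} : Set (PowerSeries k)))) (ModuleCat.of ↥A ↥N) 1) + DC.card =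
      DW.card := by
  classical
  set M := Submodule.span ↥A ({1, X ^ s} : Set (PowerSeries k)) with hMdef
  have hG : ∀ f : PowerSeries k, f ∈ A → ∀ m, coeff m f ≠ 0 → m ∈ G := fun f hf => (hA f).mp hf
  let K := Sup A hG S' hS'
  let one : ↥M := ⟨1, Submodule.subset_span (Set.mem_insert _ _)⟩
  let ts : ↥M := ⟨X ^ s, Submodule.subset_span (Set.mem_insert_of_mem _ rfl)⟩
  have hK1 : (1 : PowerSeries k) ∈ K := fun m hm => by
    rw [coeff_one] at hm
    rw [show m = 0 from by_contra fun h => hm (if_neg h)]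
    exact h0
  let x : ↥K := ⟨1, hK1⟩
  have hA1 : ∀ m : ↥K, (X : PowerSeries k) ^ (e + s) * (m : PowerSeries k) ∈ A := fun m => (hA _).mpr fun r hr => by
    obtain ⟨h1, h2⟩ := coeff_X_pow_mul_ne _ _ r hr
    have := ((hJ (r - s)).mpr ⟨by omega, by rw [show r - s - e = r - (e + s) by omega]; exact m.2 _ h2⟩).2
    rwa [Nat.sub_add_cancel (by omega : s ≤ r)] at this
  have hA2 : ∀ m : ↥K, (X : PowerSeries k) ^ e * (m : PowerSeries k) ∈ A := fun m => (hA _).mpr fun r hr => by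
    obtain ⟨h1, h2⟩ := coeff_X_pow_mul_ne _ _ r hr
    exact ((hJ r).mpr ⟨h1, m.2 _ h2⟩).1
  let i : ↥K →ₗ[↥A] ↥A × ↥A :=
    { toFun := fun m => (-⟨_, hA1 m⟩, ⟨_, hA2 m⟩)
      map_add' := fun m m' => Prod.ext
        (Subtype.ext (show -(_ * ((m : PowerSeries k) + m')) = -(_ * (m : PowerSeries k)) + -(_ * (m' : PowerSeries k))
          by rw [mul_add, neg_add]))
        (Subtype.ext (show _ * ((m : PowerSeries k) + m') = _ + _ from mul_add _ _ _))
      map_smul' := fun a m => Prod.ext (Subtype.ext (by simp [Subalgebra.smul_def]; ring))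
        (Subtype.ext (by simp [Subalgebra.smul_def]; ring)) }
  let q : ↥A × ↥A →ₗ[↥A] ↥M :=
    (LinearMap.toSpanSingleton ↥A ↥M one).coprod (LinearMap.toSpanSingleton ↥A ↥M ts)
  have hqv : ∀ p, (q p : PowerSeries k) = (p.1 : PowerSeries k) + (p.2 : PowerSeries k) * X ^ s := fun p => by
    simp [q, one, ts, Subalgebra.smul_def]
  have hi : Function.Injective i := fun m m' h => Subtype.ext (mul_left_cancel₀ (pow_ne_zero _ X_ne_zero)
    (congrArg (fun p : ↥A × ↥A => (p.2 : PowerSeries k)) h))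
  have hq : Function.Surjective q := fun m => by
    obtain ⟨a, b, hab⟩ := Submodule.mem_span_pair.mp m.2
    refine ⟨(a, b), Subtype.ext ?_⟩
    rw [hqv, ← hab]
    simp [Subalgebra.smul_def]
  have hex : Function.Exact i q := by
    intro p
    constructor
    · intro hp
      have h0' : (p.1 : PowerSeries k) = -((p.2 : PowerSeries k) * X ^ s) := by
        refine eq_neg_of_add_eq_zero_left ?_
        rw [← hqv, hp]; rfl
      have hsupp : ∀ r, coeff r (p.2 : PowerSeries k) ≠ 0 → e ≤ r ∧ r - e ∈ S' := fun r hr =>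
        (hJ r).mp ⟨(hA _).mp p.2.2 r hr, (hA _).mp p.1.2 _ (by rw [h0', map_neg, neg_ne_zero, coeff_mul_X_pow]; exact hr)⟩
      obtain ⟨g, hg, hgc⟩ := exists_eq_X_pow_mul e (p.2 : PowerSeries k) fun r hr => (hsupp r hr).1
      have hgK : g ∈ K := fun r hr => by
        have := (hsupp (r + e) (by rwa [← hgc])).2
        rwa [Nat.add_sub_cancel] at this
      refine ⟨⟨g, hgK⟩, Prod.ext (Subtype.ext ?_) (Subtype.ext hg.symm)⟩
      show -(X ^ (e + s) * g) = (p.1 : PowerSeries k)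
      rw [h0', hg, pow_add]
      ring
    · rintro ⟨m, rfl⟩
      refine Subtype.ext ?_
      rw [hqv]
      show -(X ^ (e + s) * (m : PowerSeries k)) + X ^ e * (m : PowerSeries k) * X ^ s = 0
      rw [pow_add]
      ring
  let SC : Set ℕ := {c | ∀ t ∈ S', t + c ∈ SN}
  have hSC : ∀ g ∈ G, ∀ c ∈ SC, g + c ∈ SC := fun g hg c hc t ht => by
    rw [add_left_comm]
    exact hSN g hg _ (hc t ht)
  let SW : Set ℕ := {m | (e + s ≤ m ∧ m - (e + s) ∈ SN) ∨ (e ≤ m ∧ m - e ∈ SN)}
  have hSW : ∀ g ∈ G, ∀ m ∈ SW, g + m ∈ SW := fun g hg m hm => by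
    rcases hm with ⟨h1, h2⟩ | ⟨h1, h2⟩
    · exact Or.inl ⟨by omega, by rw [Nat.add_sub_assoc h1]; exact hSN g hg _ h2⟩
    · exact Or.inr ⟨by omega, by rw [Nat.add_sub_assoc h1]; exact hSN g hg _ h2⟩
  let C := Sup A hG SC hSC
  let W := Sup A hG SW hSW
  have hval : ∀ (φ : ↥K →ₗ[↥A] ↥N) (m : ↥K), (φ m : PowerSeries k) = (m : PowerSeries k) * (φ x : PowerSeries k) := by
    intro φ m
    have hXe : (X : PowerSeries k) ^ e ∈ A := by simpa [x] using hA2 x
    have h := congrArg (fun y => (φ y : PowerSeries k)) (show (⟨_, hA2 m⟩ : ↥A) • x = (⟨_, hXe⟩ : ↥A) • m from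
      Subtype.ext (by simp [Subalgebra.smul_def, x]))
    simp only [map_smul, Submodule.coe_smul, Subalgebra.smul_def, smul_eq_mul] at h
    refine mul_left_cancel₀ (pow_ne_zero e X_ne_zero) (h.symm.trans ?_)
    rw [mul_assoc]
  have hC : ∀ c, c ∈ C ↔ ∃ φ : ↥K →ₗ[↥A] ↥N, N.subtype (φ x) = c := by
    intro c
    constructor
    · intro hc
      have hmem : ∀ m : ↥K, (m : PowerSeries k) * c ∈ N := fun m =>
        (hN _).mpr (mul_supported (S := S') (T := SC) (U := SN) (fun a ha b hb => hb a ha) m.2 hc)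
      refine ⟨{ toFun := fun m => ⟨_, hmem m⟩
                map_add' := fun m m' => Subtype.ext (add_mul _ _ _)
                map_smul' := fun a m => Subtype.ext (mul_assoc _ _ _) }, one_mul c⟩
    · rintro ⟨φ, rfl⟩ m hm t ht
      change coeff m (φ x : PowerSeries k) ≠ 0 at hm
      have hXt : (X : PowerSeries k) ^ t ∈ K := fun r hr => by
        rw [coeff_X_pow] at hr
        rwa [show r = t from by_contra fun h => hr (if_neg h)]
      refine (hN _).mp (φ ⟨_, hXt⟩).2 _ ?_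
      rw [hval, add_comm t m]
      show coeff (m + t) (X ^ t * (φ x : PowerSeries k)) ≠ 0
      rwa [coeff_X_pow_mul]
  have hW : ∀ φ : ↥K →ₗ[↥A] ↥N, (∃ η : ↥A × ↥A →ₗ[↥A] ↥N, η.comp i = φ) ↔ N.subtype (φ x) ∈ W := by
    intro φ
    constructor
    · rintro ⟨η, rfl⟩
      have hv : (η (i x) : PowerSeries k) =
          -(X ^ (e + s) * (η (1, 0) : PowerSeries k)) + X ^ e * (η (0, 1) : PowerSeries k) := by
        have h : i x = (-⟨_, hA1 x⟩ : ↥A) • ((1, 0) : ↥A × ↥A) + (⟨_, hA2 x⟩ : ↥A) • (0, 1) := by simp [i]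
        rw [h, map_add, map_smul, map_smul]
        simp [Subalgebra.smul_def, x]
      show (η (i x) : PowerSeries k) ∈ W
      rw [hv]
      refine add_mem (neg_mem fun m hm => ?_) (fun m hm => ?_)
      · obtain ⟨h1, h2⟩ := coeff_X_pow_mul_ne _ _ m hm
        exact Or.inl ⟨h1, (hN _).mp (η (1, 0)).2 _ h2⟩
      · obtain ⟨h1, h2⟩ := coeff_X_pow_mul_ne _ _ m hm
        exact Or.inr ⟨h1, (hN _).mp (η (0, 1)).2 _ h2⟩
    · intro hw
      let v : PowerSeries k := (φ x : PowerSeries k)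
      let v₂ : PowerSeries k := mk fun r => if e ≤ r ∧ r - e ∈ SN then coeff r v else 0
      obtain ⟨n₂, hn₂, hn₂c⟩ := exists_eq_X_pow_mul e v₂ fun r hr => by
        by_contra h; exact hr (by simp [v₂, h])
      obtain ⟨n₁, hn₁, hn₁c⟩ := exists_eq_X_pow_mul (e + s) (v₂ - v) fun r hr => by
        rw [map_sub, coeff_mk] at hr
        split_ifs at hr with h
        · exact absurd (sub_self _) hr
        · rw [zero_sub, neg_ne_zero] at hr
          exact ((hw r hr).resolve_right h).1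
      have hn₁N : n₁ ∈ N := (hN _).mpr fun r hr => by
        rw [hn₁c, map_sub, coeff_mk] at hr
        split_ifs at hr with h
        · exact absurd (sub_self _) hr
        · rw [zero_sub, neg_ne_zero] at hr
          have := ((hw _ hr).resolve_right h).2
          rwa [Nat.add_sub_cancel] at this
      have hn₂N : n₂ ∈ N := (hN _).mpr fun r hr => by
        rw [hn₂c, coeff_mk] at hr
        split_ifs at hr with h
        · have := h.2
          rwa [Nat.add_sub_cancel] at this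
        · exact absurd rfl hr
      refine ⟨(LinearMap.toSpanSingleton ↥A ↥N ⟨n₁, hn₁N⟩).coprod (LinearMap.toSpanSingleton ↥A ↥N ⟨n₂, hn₂N⟩),
        LinearMap.ext fun m => Subtype.ext ?_⟩
      rw [hval φ m]
      show _ = (m : PowerSeries k) * v
      rw [show v = -(X ^ (e + s) * n₁) + X ^ e * n₂ by rw [← hn₁, ← hn₂]; ring]
      simp [i, Subalgebra.smul_def]
      ring
  have hlen := length_ext_eq (O := ↥A) (M := ↥M) (N := ↥N) (F := ↥A × ↥A) (K := ↥K) i q hi hq hex N.subtype x W C hC hW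
  have hsub : SW ⊆ SC := by
    intro m hm t ht
    obtain ⟨hg1, hg2⟩ := (hJ (e + t)).mpr ⟨by omega, by rw [Nat.add_sub_cancel_left]; exact ht⟩
    rcases hm with ⟨h1, h2⟩ | ⟨h1, h2⟩
    · rw [show t + m = e + t + s + (m - (e + s)) by omega]
      exact hSN _ hg2 _ h2
    · rw [show t + m = e + t + (m - e) by omega]
      exact hSN _ hg1 _ h2
  rw [hlen]
  exact length_range_add A hG DW DC SW SC hSW hSC (fun m => (not_congr (hDW m)).trans not_not)
    (fun m => (not_congr (hDC m)).trans not_not) hsub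

end Groth.Agent.TFMonoLib
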